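import Groth.Prelude.Def_W4c6gradedringsgwSect
import Mathlib.Data.Nat.Find
import Mathlib.Tactic.Linarith

/-! Symmetric numerical semigroups through Apéry sets. -/

namespace Groth.Agent.GrSect6

open W4c6gradedringsgw

variable {H : Set ℕ} {e : ℕ}

/-- The Apéry set of `e` in `H`. -/
def Ap (H : Set ℕ) (e w : ℕ) : Prop := w ∈ H ∧ ¬ (e ≤ w ∧ w - e ∈ H)

/-- Socle degrees. -/
def Soc (H : Set ℕ) (e w : ℕ) : Prop := Ap H e w ∧ ∀ h ∈ H, 0 < h → ¬ Ap H e (w + h)

/-- Hypotheses on a numerical semigroup. -/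
structure NumSgrp (H : Set ℕ) (e : ℕ) : Prop where
  zero : 0 ∈ H
  add : ∀ a ∈ H, ∀ b ∈ H, a + b ∈ H
  mem : e ∈ H
  pos : 0 < e
  one : 1 ∉ H
  conductor : ∃ c, ∀ n, c ≤ n → n ∈ H

theorem NumSgrp.exists_frobenius (hH : NumSgrp H e) : ∃ F, F ∉ H ∧ ∀ n, F < n → n ∈ H := by
  classical
  obtain ⟨c, hc⟩ := hH.conductor
  have hc1 : 1 ≤ c := Nat.one_le_iff_ne_zero.2 fun h => hH.one (hc 1 (by omega))
  refine ⟨Nat.findGreatest (fun n => n ∉ H) c, Nat.findGreatest_spec (P := fun n => n ∉ H) hc1 hH.one, fun n hn => ?_⟩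
  by_contra h
  have hle : n ≤ c := by
    by_contra h'
    exact h (hc n (by omega))
  exact absurd (Nat.le_findGreatest (P := fun n => n ∉ H) hle h) (by omega)

variable {F : ℕ} (hH : NumSgrp H e) (hF : F ∉ H) (hF' : ∀ n, F < n → n ∈ H)
include hH hF hF'

omit hF in
theorem ap_le {w : ℕ} (hw : Ap H e w) : w ≤ F + e := by
  by_contra h
  exact hw.2 ⟨by omega, hF' _ (by omega)⟩

theorem soc_frobenius : Soc H e (F + e) := by
  refine ⟨⟨hF' _ (by have := hH.pos; omega), fun h => hF (by simpa using h.2)⟩, fun h hh hpos hA => ?_⟩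
  have := ap_le hH hF' hA
  omega

theorem soc_unique_iff : (∀ w, Soc H e w → w = F + e) ↔ IsSymmetric H := by
  have hmemZ : ∀ n : ℕ, (∃ h ∈ H, (h : ℤ) = n) ↔ n ∈ H := fun n =>
    ⟨fun ⟨h, hh, he⟩ => by rwa [show h = n by exact_mod_cast he] at hh, fun hn => ⟨n, hn, rfl⟩⟩
  constructor
  · intro huniq
    have hrefl : ∀ (j : ℕ) (w : ℕ), Ap H e w → F + e - w ≤ j → F + e - w ∈ H := by
      intro j
      induction j with
      | zero =>
        intro w hw hle
        rw [show F + e - w = 0 by omega]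
        exact hH.zero
      | succ j ih =>
        intro w hw hle
        by_cases hs : Soc H e w
        · rw [huniq w hs, Nat.sub_self]
          exact hH.zero
        simp only [Soc, hw, true_and, not_forall, not_not, exists_prop] at hs
        obtain ⟨h, hh, hpos, hA⟩ := hs
        have hle' := ap_le hH hF' hA
        have h2 := hH.add _ hh _ (ih (w + h) hA (by omega))
        rwa [show h + (F + e - (w + h)) = F + e - w by omega] at h2
    refine ⟨F, fun n => ⟨?_, ?_⟩⟩
    · rintro ⟨a, ha, rfl⟩ ⟨b, hb, hb'⟩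
      have : a + b = F := by omega
      exact hF (this ▸ hH.add a ha b hb)
    · intro hn
      by_contra hn'
      apply hn
      by_cases hneg : n < 0
      · exact ⟨((F : ℤ) - n).toNat, hF' _ (by omega), by omega⟩
      obtain ⟨m, rfl⟩ := Int.eq_ofNat_of_zero_le (not_lt.1 hneg)
      have hm : m ∉ H := fun h => hn' ⟨m, h, rfl⟩
      classical
      obtain ⟨c, hc⟩ := hH.conductor
      have hex : ∃ j, m + j * e ∈ H := ⟨c, hc _ (by
        have := hH.pos
        nlinarith)⟩
      let j := Nat.find hex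
      have hj : m + j * e ∈ H := Nat.find_spec hex
      obtain ⟨i, hi⟩ : ∃ i, j = i + 1 := Nat.exists_eq_succ_of_ne_zero fun h0 => by
        rw [h0] at hj
        exact hm (by simpa using hj)
      have hlt : m + i * e ∉ H := Nat.find_min hex (by omega)
      have hA : Ap H e (m + j * e) := ⟨hj, fun h => hlt (by
        have : m + j * e - e = m + i * e := by
          rw [hi, Nat.succ_mul]
          omega
        exact this ▸ h.2)⟩
      have hle' := ap_le hH hF' hA
      have hrest : ∀ i' : ℕ, i' * e ∈ H := fun i' => by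
        induction i' with
        | zero => simpa using hH.zero
        | succ i' ih => rw [Nat.succ_mul]; exact hH.add _ ih _ hH.mem
      have hs := hH.add _ (hrefl _ _ hA le_rfl) _ (hrest i)
      refine ⟨_, hs, ?_⟩
      have h1 : (j : ℤ) * e = (i : ℤ) * e + e := by rw [hi]; push_cast; ring
      push_cast [Nat.cast_sub hle']
      omega
  · rintro ⟨d, hd⟩ w hw
    have hd0 : ¬ ∃ h ∈ H, (h : ℤ) = d := by simpa using (hd 0).1 ⟨0, hH.zero, rfl⟩
    have hFd : ∃ h ∈ H, (h : ℤ) = d - F := by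
      by_contra h
      exact hF ((hmemZ F).1 ((hd F).2 h))
    obtain ⟨b, hb, hbd⟩ := hFd
    have hdF : d = F := by
      by_contra hne
      exact hd0 ⟨d.toNat, hF' _ (by omega), by omega⟩
    subst hdF
    have hle := ap_le hH hF' hw.1
    by_contra hne
    have hh : F + e - w ∈ H := by
      by_contra hnot
      have h1 : ¬ ∃ h ∈ H, (h : ℤ) = (F : ℤ) - ((w : ℤ) - e) := fun ⟨h, hh, heq⟩ => hnot (by
        rwa [show F + e - w = h by omega])
      obtain ⟨a, ha, haw⟩ := (hd _).2 h1
      exact hw.1.2 ⟨by omega, by rwa [show w - e = a by omega]⟩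
    refine hw.2 _ hh (by omega) ?_
    rw [show w + (F + e - w) = F + e by omega]
    exact (soc_frobenius hH hF hF').1

end Groth.Agent.GrSect6
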