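import Groth.Agent.GrSect6.Grading
import Groth.Agent.GrSect6.Apery
import Groth.Agent.GrLib8.StarGorConv
import Groth.Agent.LC.GorFlat
import Groth.Agent.S0343

/-! The section ring of a point is Gorenstein exactly for a symmetric semigroup. -/

set_option linter.unusedSectionVars false
set_option linter.style.haveILetI false

namespace Groth.Agent.GrSect6

open FunFld WithZero Polynomial W4c6gradedringsgw FFLib IsLocalRing

universe u

section Local

variable {R : Type u} [CommRing R]

theorem gorenstein_iff_of_ringEquiv {A B : Type u} [CommRing A] [IsLocalRing A] [IsNoetherianRing A]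
    [CommRing B] [IsLocalRing B] [IsNoetherianRing B] (e : A ≃+* B) :
    LocCoh.IsGorensteinLocalRing A ↔ LocCoh.IsGorensteinLocalRing B :=
  ⟨fun _ => LC.gorenstein_of_ringEquiv e, fun _ => LC.gorenstein_of_ringEquiv e.symm⟩

/-- Two regular elements at a maximal ideal with local quotient. -/
theorem gorenstein_atPrime_iff [IsDomain R] [IsNoetherianRing R] (M : Ideal R) [M.IsPrime] {t s : R}
    (htM : t ∈ M) (hsM : s ∈ M) (ht : Prime t) (hs : s ∉ Ideal.span {t}) [IsLocalRing (R ⧸ Ideal.span {t, s})]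
    (hmax : maximalIdeal (R ⧸ Ideal.span {t, s}) = M.map (Ideal.Quotient.mk _)) :
    LocCoh.IsGorensteinLocalRing (Localization.AtPrime M) ↔
      LocCoh.IsGorensteinLocalRing (R ⧸ Ideal.span {t, s}) := by
  let B := Localization.AtPrime M
  let φ := algebraMap R B
  let J := Ideal.span {t, s}
  have hJM : J ≤ M := Ideal.span_le.2 (by rintro x (rfl | rfl) <;> assumption)
  haveI : IsNoetherianRing B := IsLocalization.isNoetherianRing M.primeCompl B inferInstance
  haveI : IsDomain B := IsLocalization.isDomain_localization M.primeCompl_le_nonZeroDivisors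
  have hinj : Function.Injective φ := IsLocalization.injective B M.primeCompl_le_nonZeroDivisors
  have hφM : ∀ {x : R}, x ∈ M → φ x ∈ maximalIdeal B := fun {x} hx => by
    rw [← Localization.AtPrime.map_eq_maximalIdeal]
    exact Ideal.mem_map_of_mem _ hx
  have ht0 : φ t ≠ 0 := fun h => ht.ne_zero (hinj (h.trans (map_zero φ).symm))
  have hdisj : Disjoint (M.primeCompl : Set R) (Ideal.span {t} : Ideal R) :=
    Set.disjoint_left.2 fun x hx hx' => hx ((Ideal.span_singleton_le_iff_mem _).2 htM hx')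
  haveI hpt : (Ideal.span {t}).IsPrime := (Ideal.span_singleton_prime ht.ne_zero).2 ht
  have hmapt : (Ideal.span {t}).map φ = Ideal.span {φ t} := by rw [Ideal.map_span, Set.image_singleton]
  haveI hpt' : (Ideal.span {φ t}).IsPrime :=
    hmapt ▸ IsLocalization.isPrime_of_isPrime_disjoint M.primeCompl B _ hpt hdisj
  let A₁ := B ⧸ Ideal.span {φ t}
  haveI : IsLocalRing A₁ := .of_surjective' _ Ideal.Quotient.mk_surjective
  let s' : A₁ := Ideal.Quotient.mk _ (φ s)
  have hs0 : s' ≠ 0 := fun h => hs (by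
    have h2 := Ideal.Quotient.eq_zero_iff_mem.1 h
    rw [← hmapt] at h2
    have h3 : s ∈ Ideal.under R ((Ideal.span {t}).map φ) := h2
    rwa [IsLocalization.comap_map_of_isPrime_disjoint M.primeCompl B hpt hdisj] at h3)
  have hsmax : s' ∈ maximalIdeal A₁ := by
    rw [mem_maximalIdeal, mem_nonunits_iff]
    intro hu
    obtain ⟨y, hy⟩ := hu.exists_right_inv
    obtain ⟨y, rfl⟩ := Ideal.Quotient.mk_surjective y
    rw [← map_mul, ← map_one (Ideal.Quotient.mk (Ideal.span {φ t})), Ideal.Quotient.eq] at hy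
    have h2 : φ s * y - 1 ∈ maximalIdeal B := (Ideal.span_singleton_le_iff_mem _).2 (hφM htM) hy
    have h3 := sub_mem (Ideal.mul_mem_right y _ (hφM hsM)) h2
    rw [sub_sub_cancel] at h3
    exact (IsLocalRing.maximalIdeal.isMaximal B).ne_top ((Ideal.eq_top_iff_one _).2 h3)
  rw [S0343.result B (φ t) (hφM htM) (IsSMulRegular.of_ne_zero ht0),
    S0343.result A₁ s' hsmax (IsSMulRegular.of_ne_zero hs0)]
  let Q := R ⧸ J
  have hunit : ∀ u : M.primeCompl, IsUnit (Ideal.Quotient.mk J (u : R)) := fun u => by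
    by_contra hu
    have h : Ideal.Quotient.mk J (u : R) ∈ maximalIdeal Q := (mem_maximalIdeal _).2 hu
    rw [hmax, ← Ideal.mem_comap, Ideal.comap_map_of_surjective _ Ideal.Quotient.mk_surjective,
      ← RingHom.ker_eq_comap_bot, Ideal.mk_ker, sup_eq_left.2 hJM] at h
    exact u.2 h
  let g : B →+* Q := IsLocalization.lift hunit
  have hgφ : ∀ x, g (φ x) = Ideal.Quotient.mk J x := IsLocalization.lift_eq hunit
  have hker : RingHom.ker g = Ideal.span {φ t} ⊔ Ideal.span {φ s} := by
    refine le_antisymm (fun z hz => ?_) (sup_le ?_ ?_)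
    · obtain ⟨⟨x, u⟩, hxu⟩ := IsLocalization.surj M.primeCompl z
      have hx : x ∈ J := by
        rw [← Ideal.Quotient.eq_zero_iff_mem, ← hgφ x, ← hxu, map_mul, RingHom.mem_ker.1 hz, zero_mul]
      have h2 : φ x ∈ Ideal.span {φ t} ⊔ Ideal.span {φ s} := by
        rw [← Ideal.span_union]
        have := Ideal.mem_map_of_mem φ hx
        rw [Ideal.map_span, Set.image_insert_eq, Set.image_singleton] at this
        exact this
      rw [← hxu] at h2
      exact (Ideal.unit_mul_mem_iff_mem _ (IsLocalization.map_units B u)).1 (by rwa [mul_comm] at h2)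
    · rw [Ideal.span_singleton_le_iff_mem, RingHom.mem_ker, hgφ, Ideal.Quotient.eq_zero_iff_mem]
      exact Ideal.subset_span (Set.mem_insert _ _)
    · rw [Ideal.span_singleton_le_iff_mem, RingHom.mem_ker, hgφ, Ideal.Quotient.eq_zero_iff_mem]
      exact Ideal.subset_span (Set.mem_insert_of_mem _ rfl)
  have hsurj : Function.Surjective g := fun q => by
    obtain ⟨x, rfl⟩ := Ideal.Quotient.mk_surjective q
    exact ⟨φ x, hgφ x⟩
  have hmap : (Ideal.span {φ s}).map (Ideal.Quotient.mk (Ideal.span {φ t})) = Ideal.span {s'} := by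
    rw [Ideal.map_span, Set.image_singleton]
  let e : A₁ ⧸ Ideal.span {s'} ≃+* Q :=
    (Ideal.quotEquivOfEq hmap.symm).trans ((DoubleQuot.quotQuotEquivQuotSup _ _).trans
      ((Ideal.quotEquivOfEq hker.symm).trans (RingHom.quotientKerEquivOfSurjective hsurj)))
  haveI : IsLocalRing (A₁ ⧸ Ideal.span {s'}) := e.symm.isLocalRing
  exact gorenstein_iff_of_ringEquiv e

theorem eq_map_of_isMaximal (M J : Ideal R) [M.IsMaximal] {N : ℕ} (hN : M ^ N ≤ J) (I : Ideal (R ⧸ J))
    [I.IsMaximal] : I = M.map (Ideal.Quotient.mk J) := by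
  have hJI : J ≤ I.comap (Ideal.Quotient.mk J) := fun x hx => by
    rw [Ideal.mem_comap, Ideal.Quotient.eq_zero_iff_mem.2 hx]
    exact zero_mem _
  rw [Ideal.IsMaximal.eq_of_le ‹M.IsMaximal› (Ideal.IsPrime.ne_top inferInstance)
      (Ideal.IsPrime.le_of_pow_le (hN.trans hJI)),
    Ideal.map_comap_of_surjective _ Ideal.Quotient.mk_surjective]

theorem isLocalRing_quot (M J : Ideal R) [hM : M.IsMaximal] (hJM : J ≤ M) {N : ℕ} (hN : M ^ N ≤ J) :
    IsLocalRing (R ⧸ J) := by
  haveI : Nontrivial (R ⧸ J) := Ideal.Quotient.nontrivial_iff.2 fun h => hM.ne_top (top_unique (h ▸ hJM))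
  obtain ⟨I, hI⟩ := Ideal.exists_maximal (R ⧸ J)
  exact IsLocalRing.of_unique_max_ideal ⟨I, hI, fun I' hI' =>
    (@eq_map_of_isMaximal _ _ M J _ N hN I' hI').trans (@eq_map_of_isMaximal _ _ M J _ N hN I hI).symm⟩

theorem maximalIdeal_quot (M J : Ideal R) [M.IsMaximal] [IsLocalRing (R ⧸ J)] (_hJM : J ≤ M) {N : ℕ}
    (hN : M ^ N ≤ J) : maximalIdeal (R ⧸ J) = M.map (Ideal.Quotient.mk J) :=
  eq_map_of_isMaximal M J hN _

theorem isNilpotent_quot (M J : Ideal R) [IsLocalRing (R ⧸ J)]
    (hmax : maximalIdeal (R ⧸ J) = M.map (Ideal.Quotient.mk J)) {N : ℕ} (hN : M ^ N ≤ J) :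
    IsNilpotent (maximalIdeal (R ⧸ J)) := ⟨N, by
  rw [hmax, ← Ideal.map_pow, Ideal.zero_eq_bot, Ideal.map_eq_bot_iff_le_ker, Ideal.mk_ker]
  exact hN⟩

theorem gorenstein_atPrime_congr {M M' : Ideal R} [M.IsPrime] [M'.IsPrime] (h : M' = M)
    (hG : LocCoh.IsGorensteinLocalRing (Localization.AtPrime M)) :
    LocCoh.IsGorensteinLocalRing (Localization.AtPrime M') := by
  subst h
  exact hG

end Local

variable {k K : Type u} [Field k] [IsAlgClosed k] [Field K] [Algebra k K] {P : Place k K}
variable (hK : IsFunctionField k K) (hg : 1 ≤ genus k K)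

local notation "RR" => sectRing (Finsupp.single P 1 : Divisor k K)
local notation "HH" => poleOrders P

include hK hg in
theorem numSgrp : ∃ e, NumSgrp HH e := by
  have hd := deg_eq_one hK.1 P
  have hbig : ∀ n : ℕ, 2 * genus k K ≤ n → n ∈ HH := fun n hn => by
    show ell _ = ell _ + 1
    rw [smul_single, smul_single]
    have h1 := ell_of_deg_gt hK (D := Finsupp.single P (n : ℤ)) (by rw [Divisor.deg_single, hd]; omega)
    have h2 := ell_of_deg_gt hK (D := Finsupp.single P ((n : ℤ) - 1)) (by rw [Divisor.deg_single, hd]; omega)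
    rw [Divisor.deg_single, hd] at h1 h2
    omega
  refine ⟨2 * genus k K, ⟨zero_mem_poleOrders hK, fun a ha b hb => ?_, hbig _ le_rfl, by omega, fun h => ?_,
    ⟨_, hbig⟩⟩⟩
  · rw [← closure_poleOrders hK] at ha hb ⊢
    exact add_mem ha hb
  · have h' : ell _ = ell _ + 1 := h
    rw [smul_single, smul_single] at h'
    push_cast at h'
    rw [ell_single_one hK (by omega) hd] at h'
    simp [ell_zero hK] at h'

/-- All exponents lie above `e` inside the semigroup. -/
def Cond (H : Set ℕ) (e : ℕ) (q : k[X]) : Prop := ∀ n, q.coeff n ≠ 0 → e ≤ n ∧ n - e ∈ H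

include hK in
theorem exists_psi_lift (q : k[X]) (hq : ∀ n, q.coeff n ≠ 0 → n ∈ HH) : ∃ p : ↥RR, psi P hK p = q := by
  choose f hf _ using fun n : q.support => exists_psi_eq hK (hq n (Polynomial.mem_support_iff.1 n.2)) (q.coeff n)
  refine ⟨∑ n : q.support, f n, ?_⟩
  rw [map_sum, Finset.sum_congr rfl fun n _ => hf n, Finset.sum_coe_sort q.support fun n => monomial n (q.coeff n)]
  exact (as_sum_support q).symm

include hK in
theorem mem_irr_iff (p : ↥RR) : p ∈ irr P ↔ (psi P hK p).coeff 0 = 0 := by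
  rw [mem_irr, psi_coeff_eq_zero]
  refine ⟨fun h => h ▸ zero_mem _, fun h => eq_zero_of_mem_L_neg_one hK (P := P) (by simpa using h)⟩

include hK hg in
theorem result_iff : LocCoh.IsGorensteinRing ↥RR ↔ IsSymmetric HH := by
  classical
  obtain ⟨e, hH⟩ := numSgrp (P := P) hK hg
  obtain ⟨F, hF, hF'⟩ := hH.exists_frobenius
  haveI := isNoetherian_sectRing (P := P) hK hg
  have hone : (1 : K) ∈ L (Finsupp.single P ((1 : ℕ) : ℤ)) := fun Q => by
    rw [map_one, ← exp_zero, exp_le_exp]
    by_cases h : P = Q <;> simp [Finsupp.single_apply, h]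
  let t : ↥RR := monom 1 1 hone
  have ht : (t : K[X]) = C (1 : K) * X := by simp [t, monom, monomial_one_one_eq_X]
  have hprime := (prime_and_equiv t hg hK one_ne_zero ht).1
  have hkert := ker_psi hK t hg one_ne_zero ht
  have hψt : psi P hK t = 0 := RingHom.mem_ker.1 (hkert ▸ Ideal.mem_span_singleton_self t)
  obtain ⟨s, hs, -⟩ := exists_psi_eq hK hH.mem (1 : k)
  let M := irr P
  let J := Ideal.span {t, s}
  have hcoeff : ∀ (p : ↥RR) n, (psi P hK p).coeff n ≠ 0 → n ∈ HH := fun p n hn =>
    by_contra fun h => hn (psi_coeff_eq_zero_of_not_mem hK p h)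
  have hJ : ∀ x : ↥RR, x ∈ J ↔ Cond HH e (psi P hK x) := by
    intro x
    constructor
    · intro hx n hn
      obtain ⟨a, b, rfl⟩ := Ideal.mem_span_pair.1 hx
      rw [map_add, map_mul, map_mul, hψt, mul_zero, zero_add, hs, monomial_one_right_eq_X_pow,
        coeff_mul_X_pow'] at hn
      split_ifs at hn with h
      · exact ⟨h, hcoeff b _ hn⟩
      · exact absurd rfl hn
    · intro hx
      let q : k[X] := ∑ n ∈ (psi P hK x).support, monomial (n - e) ((psi P hK x).coeff n)
      obtain ⟨y, hy⟩ := exists_psi_lift hK q (P := P) fun m hm => by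
        rw [finset_sum_coeff] at hm
        obtain ⟨n, hn, hne⟩ := Finset.exists_ne_zero_of_sum_ne_zero hm
        rw [coeff_monomial] at hne
        split_ifs at hne with h
        · exact h ▸ (hx n (Polynomial.mem_support_iff.1 hn)).2
        · exact absurd rfl hne
      have h0 : x - y * s ∈ RingHom.ker (psi P hK) := by
        rw [RingHom.mem_ker, map_sub, map_mul, hy, hs, Finset.sum_mul, sub_eq_zero]
        conv_lhs => rw [as_sum_support (psi P hK x)]
        refine Finset.sum_congr rfl fun n hn => ?_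
        rw [monomial_mul_monomial, mul_one, Nat.sub_add_cancel (hx n (Polynomial.mem_support_iff.1 hn)).1]
      rw [hkert, Ideal.mem_span_singleton'] at h0
      obtain ⟨a, ha⟩ := h0
      exact Ideal.mem_span_pair.2 ⟨a, y, by rw [ha]; abel⟩
  have hsM : s ∈ M := (mem_irr_iff hK s).2 (by rw [hs, coeff_monomial, if_neg (by have := hH.pos; omega)])
  have htM : t ∈ M := (mem_irr_iff hK t).2 (by rw [hψt, coeff_zero])
  have hst : s ∉ Ideal.span {t} := fun h => by
    rw [← hkert, RingHom.mem_ker, hs] at h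
    simp [monomial_eq_zero_iff] at h
  haveI hMmax : M.IsMaximal := by
    refine Ideal.isMaximal_iff.2 ⟨fun h => ?_, fun J' x hle hx hxJ => ?_⟩
    · exact one_ne_zero (α := k) (by simpa using (mem_irr_iff hK (1 : ↥RR)).1 h)
    · let c := (psi P hK x).coeff 0
      have hc : c ≠ 0 := fun h => hx ((mem_irr_iff hK x).2 h)
      have h1 : x - algebraMap k _ c ∈ M := (mem_irr_iff hK _).2 (by
        rw [map_sub, AlgHom.commutes, coeff_sub, Polynomial.algebraMap_apply, coeff_C, if_pos rfl,
          Algebra.algebraMap_self_apply]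
        exact sub_self c)
      have h2 : algebraMap k ↥RR c ∈ J' := by simpa using sub_mem hxJ (hle h1)
      have h3 := J'.mul_mem_left (algebraMap k ↥RR c⁻¹) h2
      rwa [← map_mul, inv_mul_cancel₀ hc, map_one] at h3
  have hJM : J ≤ M := Ideal.span_le.2 (by rintro x (rfl | rfl) <;> assumption)
  obtain ⟨N, hN⟩ : ∃ N, M ^ N ≤ J := by
    refine ⟨F + e + 1, fun x hx => (hJ x).2 fun n hn => ?_⟩
    have h1 : psi P hK x ∈ Ideal.span {(X : k[X]) ^ (F + e + 1)} := by
      have h := Ideal.mem_map_of_mem (psi P hK) hx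
      rw [Ideal.map_pow] at h
      have hle : M.map (psi P hK) ≤ Ideal.span {(X : k[X])} := Ideal.map_le_iff_le_comap.2 fun y hy => by
        rw [Ideal.mem_comap, Ideal.mem_span_singleton, Polynomial.X_dvd_iff]
        exact (mem_irr_iff hK y).1 hy
      have h' := Ideal.pow_right_mono hle _ h
      rwa [Ideal.span_singleton_pow] at h'
    rw [Ideal.mem_span_singleton, Polynomial.X_pow_dvd_iff] at h1
    have hlt : F + e < n := by
      by_contra hle
      exact hn (h1 n (by omega))
    exact ⟨by omega, hF' _ (by omega)⟩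
  haveI := isLocalRing_quot M J hJM hN
  have hmaxQ := maximalIdeal_quot M J hJM hN
  -- the annihilator of the maximal ideal
  have hann : ∀ x : ↥RR, (∀ r ∈ maximalIdeal (↥RR ⧸ J), r * Ideal.Quotient.mk J x = 0) ↔
      ∀ n, (psi P hK x).coeff n ≠ 0 → Ap HH e n → Soc HH e n := by
    intro x
    constructor
    · intro h n hn hA
      refine ⟨hA, fun j hj hjpos hAj => ?_⟩
      obtain ⟨m, hm, -⟩ := exists_psi_eq hK hj (1 : k)
      have hmM : m ∈ M := (mem_irr_iff hK m).2 (by rw [hm, coeff_monomial, if_neg (by omega)])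
      have h2 := h _ (hmaxQ ▸ Ideal.mem_map_of_mem _ hmM)
      rw [← map_mul, Ideal.Quotient.eq_zero_iff_mem, hJ] at h2
      refine hAj.2 (h2 (n + j) ?_)
      rw [map_mul, hm, monomial_one_right_eq_X_pow, mul_comm, coeff_mul_X_pow]
      exact hn
    · intro h r hr
      obtain ⟨m, rfl⟩ := Ideal.Quotient.mk_surjective r
      have hmM : m ∈ M := by
        rw [hmaxQ, ← Ideal.mem_comap, Ideal.comap_map_of_surjective _ Ideal.Quotient.mk_surjective,
          ← RingHom.ker_eq_comap_bot, Ideal.mk_ker, sup_eq_left.2 hJM] at hr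
        exact hr
      rw [← map_mul, Ideal.Quotient.eq_zero_iff_mem, hJ]
      intro l hl
      rw [map_mul, coeff_mul] at hl
      obtain ⟨⟨i, n⟩, hin, hne⟩ := Finset.exists_ne_zero_of_sum_ne_zero hl
      obtain rfl : i + n = l := Finset.HasAntidiagonal.mem_antidiagonal.1 hin
      have hi := left_ne_zero_of_mul hne
      have hn := right_ne_zero_of_mul hne
      have hi0 : 0 < i := Nat.pos_of_ne_zero fun h0 => hi (h0 ▸ (mem_irr_iff hK m).1 hmM)
      by_cases hA : Ap HH e n
      · have h2 := (h n hn hA).2 i (hcoeff m i hi) hi0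
        rw [add_comm i n]
        exact by_contra fun h3 => h2 ⟨hH.add _ (hcoeff x n hn) _ (hcoeff m i hi), h3⟩
      · obtain ⟨h3, h4⟩ : e ≤ n ∧ n - e ∈ HH := by_contra fun h5 => hA ⟨hcoeff x n hn, h5⟩
        refine ⟨by omega, ?_⟩
        rw [Nat.add_sub_assoc h3]
        exact hH.add _ (hcoeff m i hi) _ h4
  have hsocF := soc_frobenius hH hF hF'
  obtain ⟨x₀, hx₀, -⟩ := exists_psi_eq hK hsocF.1.1 (1 : k)
  have hx₀0 : Ideal.Quotient.mk J x₀ ≠ 0 := by
    rw [Ne, Ideal.Quotient.eq_zero_iff_mem, hJ]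
    intro h
    exact hsocF.1.2 (h _ (by rw [hx₀, coeff_monomial, if_pos rfl]; exact one_ne_zero))
  have hx₀ann : ∀ r ∈ maximalIdeal (↥RR ⧸ J), r * Ideal.Quotient.mk J x₀ = 0 := (hann x₀).2 fun n hn hA => by
    rw [hx₀, coeff_monomial] at hn
    split_ifs at hn with h
    · exact h ▸ hsocF
    · exact absurd rfl hn
  have hnil := isNilpotent_quot M J hmaxQ hN
  have key : LocCoh.IsGorensteinLocalRing (↥RR ⧸ J) ↔ IsSymmetric HH := by
    rw [← soc_unique_iff hH hF hF']
    constructor
    · intro hG w hw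
      obtain ⟨x, hx, -⟩ := exists_psi_eq hK hw.1.1 (1 : k)
      obtain ⟨c, hc⟩ := (LC.socle_of_gorenstein hx₀0 hx₀ann).2 (Ideal.Quotient.mk J x) ((hann x).2 fun n hn _ => by
        rw [hx, coeff_monomial] at hn
        split_ifs at hn with h
        · exact h ▸ hw
        · exact absurd rfl hn)
      obtain ⟨c, rfl⟩ := Ideal.Quotient.mk_surjective c
      rw [← map_mul, Ideal.Quotient.eq, hJ] at hc
      by_contra hne
      have hle := ap_le hH hF' hw.1
      refine hw.1.2 (hc w ?_)
      rw [map_sub, map_mul, hx, hx₀, coeff_sub, monomial_one_right_eq_X_pow, monomial_one_right_eq_X_pow,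
        coeff_X_pow, if_pos rfl, coeff_mul_X_pow', if_neg (by omega), sub_zero]
      exact one_ne_zero
    · intro huniq
      refine LC.gorenstein_of_socle hnil hx₀0 hx₀ann fun r hr => ?_
      obtain ⟨x, rfl⟩ := Ideal.Quotient.mk_surjective r
      refine ⟨Ideal.Quotient.mk J (algebraMap k _ ((psi P hK x).coeff (F + e))), ?_⟩
      rw [← map_mul, Ideal.Quotient.eq, hJ]
      intro n hn
      by_contra hA
      rw [map_sub, map_mul, AlgHom.commutes, hx₀, Polynomial.algebraMap_apply, Algebra.algebraMap_self_apply,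
        coeff_sub, coeff_C_mul, coeff_monomial] at hn
      split_ifs at hn with h
      · subst h
        simp at hn
      · rw [mul_zero, sub_zero] at hn
        exact h (huniq n ((hann x).1 hr n hn ⟨hcoeff x n hn, hA⟩)).symm
  rw [← key, ← gorenstein_atPrime_iff M htM hsM hprime hst hmaxQ]
  refine ⟨fun h => h.isGorensteinLocalRing_localization M, fun h => ?_⟩
  have hm : (GrSyz.irrel (sgr P)).toIdeal = M := irrel_eq hK
  haveI : (GrSyz.irrel (sgr P)).toIdeal.IsPrime := hm ▸ hMmax.isPrime
  refine GrLib8.StarGor.gorensteinRing_of_atStarMax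
    (GrLib8.isStarLocal_irrel (fun n hn => sgr_neg hn) (isField_deg0 hK)) ?_
  exact gorenstein_atPrime_congr hm h

end Groth.Agent.GrSect6
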