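import Groth.Agent.GrSect6.Basic
import Groth.Agent.GrLib8.StarField
import Mathlib.RingTheory.GradedAlgebra.Basic
import Mathlib.RingTheory.FiniteType

/-! The grading of the section ring of a point, and its Noetherianity. -/

set_option linter.unusedSectionVars false

namespace Groth.Agent.GrSect6

open FunFld WithZero Polynomial W4c6gradedringsgw FFLib DirectSum

universe u

variable {k K : Type u} [Field k] [Field K] [Algebra k K]
variable (P : Place k K)

local notation "RR" => sectRing (Finsupp.single P 1 : Divisor k K)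

/-- The homogeneous pieces. -/
def sgr (n : ℤ) : AddSubgroup ↥RR where
  carrier := {p | ∀ j : ℕ, (j : ℤ) ≠ n → (p : K[X]).coeff j = 0}
  add_mem' {p q} hp hq j hj := by simp [hp j hj, hq j hj]
  zero_mem' j _ := by simp
  neg_mem' {p} hp j hj := by simp [hp j hj]

variable {P}

theorem monom_mem_sgr (n : ℕ) (x : K) (hx : x ∈ L (Finsupp.single P (n : ℤ))) :
    monom n x hx ∈ sgr P (n : ℤ) := fun j hj => by
  show (monomial n x).coeff j = 0
  rw [coeff_monomial, if_neg]
  rintro rfl
  exact hj rfl

theorem sum_monom (p : ↥RR) :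
    p = ∑ n ∈ Finset.range ((p : K[X]).natDegree + 1),
      monom n ((p : K[X]).coeff n) ((mem_sectRing P).mp p.2 n) := by
  refine Subtype.ext ?_
  push_cast
  exact as_sum_range (p : K[X])

theorem sgr_mul {a b : ℤ} {p q : ↥RR} (hp : p ∈ sgr P a) (hq : q ∈ sgr P b) : p * q ∈ sgr P (a + b) := by
  intro j hj
  show ((p : K[X]) * (q : K[X])).coeff j = 0
  rw [coeff_mul]
  refine Finset.sum_eq_zero fun x hx => ?_
  have hx : x.1 + x.2 = j := Finset.HasAntidiagonal.mem_antidiagonal.1 hx
  by_cases h1 : (x.1 : ℤ) = a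
  · rw [hq x.2 (fun h2 => hj (by omega)), mul_zero]
  · rw [hp x.1 h1, zero_mul]

theorem sgr_one : (1 : ↥RR) ∈ sgr P 0 := fun j hj => by
  show (1 : K[X]).coeff j = 0
  rw [coeff_one, if_neg]
  rintro rfl
  exact hj rfl

theorem sgr_neg {n : ℤ} (hn : n < 0) : sgr P n = ⊥ := by
  rw [eq_bot_iff]
  intro p hp
  refine (AddSubgroup.mem_bot).2 (Subtype.ext (Polynomial.ext fun j => ?_))
  exact (hp j (by omega)).trans (coeff_zero j).symm

/-- Coefficient `j`. -/
noncomputable def coeffHom (j : ℕ) : ↥RR →+ K :=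
  (Polynomial.lcoeff K j).toAddMonoidHom.comp (sectRing (Finsupp.single P 1 : Divisor k K)).toSubmodule.toAddSubgroup.subtype

theorem coeff_coe (j : ℕ) (x : ⨁ n : ℤ, sgr P n) :
    ((DirectSum.coeAddMonoidHom (sgr P) x : ↥RR) : K[X]).coeff j = (((x (j : ℤ)) : ↥RR) : K[X]).coeff j := by
  classical
  induction x using DirectSum.induction_on with
  | zero => simp
  | of n y =>
    rw [DirectSum.coeAddMonoidHom_of]
    rcases eq_or_ne n (j : ℤ) with rfl | hne
    · rw [DirectSum.of_eq_same]
    · rw [DirectSum.of_eq_of_ne _ _ _ hne.symm]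
      simpa using y.2 j hne.symm
  | add a b ha hb => simp [ha, hb]

theorem sgr_isInternal : DirectSum.IsInternal (sgr P) := by
  classical
  constructor
  · intro x y hxy
    refine DFinsupp.ext fun n => Subtype.ext (Subtype.ext (Polynomial.ext fun j => ?_))
    rcases eq_or_ne n (j : ℤ) with rfl | hne
    · rw [← coeff_coe, ← coeff_coe, hxy]
    · rw [(x n).2 j hne.symm, (y n).2 j hne.symm]
  · intro p
    refine ⟨∑ n ∈ Finset.range ((p : K[X]).natDegree + 1), DirectSum.of (fun i => sgr P i) (n : ℤ)
      ⟨monom n ((p : K[X]).coeff n) ((mem_sectRing P).mp p.2 n), monom_mem_sgr n _ _⟩, ?_⟩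
    rw [map_sum]
    simp only [DirectSum.coeAddMonoidHom_of]
    exact (sum_monom p).symm

/-- The grading of the section ring. -/
noncomputable instance sgrGraded : GradedRing (sgr P) where
  one_mem := sgr_one
  mul_mem _ _ _ _ := sgr_mul
  toDecomposition := DirectSum.IsInternal.chooseDecomposition _ sgr_isInternal

variable [IsAlgClosed k] (hK : IsFunctionField k K)
include hK

theorem exists_const {x : K} (hx : x ∈ L (0 : Divisor k K)) : ∃ c : k, algebraMap k K c = x := by
  obtain ⟨c, hc⟩ := exists_eq_algebraMap hK (x := x) (fun hh => hh (L_zero_le_algebraic hK.1 hx))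
  exact ⟨c, hc⟩

theorem isField_deg0 : IsField (GrLC.deg0 (sgr P)) := by
  have hc : ∀ z : GrLC.deg0 (sgr P), ∃ c : k, (z : ↥RR) = algebraMap k _ c := fun z => by
    have hz0 : ((z : ↥RR) : K[X]).coeff 0 ∈ L (0 : Divisor k K) := by
      simpa using (mem_sectRing P).mp (z : ↥RR).2 0
    obtain ⟨c, hc⟩ := exists_const hK hz0
    refine ⟨c, Subtype.ext (Polynomial.ext fun j => ?_)⟩
    show _ = (algebraMap k K[X] c).coeff j
    rw [Polynomial.algebraMap_apply, coeff_C]
    split_ifs with h
    · subst h; exact hc.symm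
    · exact z.2 j (by exact_mod_cast h)
  refine ⟨⟨0, 1, fun h => ?_⟩, mul_comm, fun {z} hz => ?_⟩
  · have h' := congrArg (fun w : GrLC.deg0 (sgr P) => ((w : ↥RR) : K[X]).coeff 0) h
    simp at h'
  · obtain ⟨c, hc⟩ := hc z
    have hc0 : c ≠ 0 := fun h => hz (Subtype.ext (by rw [hc, h, map_zero]; rfl))
    refine ⟨⟨algebraMap k _ c⁻¹, fun j hj => ?_⟩, Subtype.ext ?_⟩
    · show (algebraMap k K[X] c⁻¹).coeff j = 0
      rw [Polynomial.algebraMap_apply, coeff_C, if_neg]
      rintro rfl
      exact hj rfl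
    · show (z : ↥RR) * algebraMap k _ c⁻¹ = 1
      rw [hc, ← map_mul, mul_inv_cancel₀ hc0, map_one]

theorem irrel_eq : (GrSyz.irrel (sgr P)).toIdeal = irr P := by
  refine le_antisymm (Ideal.span_le.2 ?_) fun p hp => ?_
  · rintro r ⟨n, hn, hr⟩
    exact mem_irr.2 (hr 0 (by omega))
  · rw [sum_monom p]
    refine Ideal.sum_mem _ fun n _ => ?_
    rcases Nat.eq_zero_or_pos n with rfl | hn
    · have : monom 0 ((p : K[X]).coeff 0) ((mem_sectRing P).mp p.2 0) = 0 := Subtype.ext (by simp [monom, mem_irr.1 hp])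
      rw [this]
      exact zero_mem _
    · exact Ideal.subset_span ⟨n, by exact_mod_cast hn, monom_mem_sgr n _ _⟩

theorem psi_monom_coeff {n m : ℕ} (x : K) (hx : x ∈ L (Finsupp.single P (n : ℤ))) (h : n ≠ m) :
    (psi P hK (monom n x hx)).coeff m = 0 := by
  rw [psi_coeff_eq_zero]
  show (monomial n x).coeff m ∈ _
  rw [coeff_monomial, if_neg h]
  exact zero_mem _

theorem exists_homog_lift {n : ℕ} (hn : n ∈ poleOrders P) (c : k) :
    ∃ (x : K) (hx : x ∈ L (Finsupp.single P (n : ℤ))), psi P hK (monom n x hx) = monomial n c := by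
  obtain ⟨p, hp, -⟩ := exists_psi_eq hK hn c
  refine ⟨(p : K[X]).coeff n, (mem_sectRing P).mp p.2 n, Polynomial.ext fun m => ?_⟩
  rw [coeff_monomial]
  split_ifs with h
  · subst h
    have h2 : (psi P hK p).coeff n = c := by rw [hp, coeff_monomial, if_pos rfl]
    rw [← h2, psi_coeff, psi_coeff]
    congr 2
    exact Subtype.ext (by simp [coe_scale_coeff, monom])
  · exact psi_monom_coeff hK _ _ h

theorem isNoetherian_sectRing (hg : 1 ≤ genus k K) : IsNoetherianRing ↥RR := by
  classical
  have hone : (1 : K) ∈ L (Finsupp.single P ((1 : ℕ) : ℤ)) := fun Q => by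
    rw [map_one, ← exp_zero, exp_le_exp]
    by_cases h : P = Q <;> simp [Finsupp.single_apply, h]
  let t : ↥RR := monom 1 1 hone
  have ht : (t : K[X]) = C (1 : K) * X := by simp [t, monom, monomial_one_one_eq_X]
  choose f hfL hf using fun h : minGens (poleOrders P) => exists_homog_lift hK h.2.1 (1 : k)
  haveI : Fintype (minGens (poleOrders P)) := (minGens_finite hK).fintype
  let G : Finset ↥RR := insert t (Finset.univ.image fun h : minGens (poleOrders P) => monom (h : ℕ) (f h) (hfL h))
  let S := Algebra.adjoin k (G : Set ↥RR)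
  have hmul : ∀ a b : ℕ, ∀ x (hx : x ∈ L (Finsupp.single P (a : ℤ))) y (hy : y ∈ L (Finsupp.single P (b : ℤ)))
      (hxy : x * y ∈ L (Finsupp.single P ((a + b : ℕ) : ℤ))),
      monom (a + b) (x * y) hxy = monom a x hx * monom b y hy := fun a b x hx y hy hxy =>
    Subtype.ext (monomial_mul_monomial a b x y).symm
  have hlift : ∀ n, n ∈ poleOrders P → n ≠ 0 → ∃ (x : K) (hx : x ∈ L (Finsupp.single P (n : ℤ))),
      monom n x hx ∈ S ∧ psi P hK (monom n x hx) = monomial n 1 := by
    intro n
    induction n using Nat.strong_induction_on with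
    | _ n ih =>
    intro hn hn0
    by_cases hm : n ∈ minGens (poleOrders P)
    · exact ⟨f ⟨n, hm⟩, hfL _, Algebra.subset_adjoin (Finset.mem_coe.2 (Finset.mem_insert_of_mem
        (Finset.mem_image.2 ⟨⟨n, hm⟩, Finset.mem_univ _, rfl⟩))), hf _⟩
    · simp only [minGens, Set.mem_setOf_eq, hn, hn0, ne_eq, not_false_eq_true, true_and, not_forall,
        not_not, exists_prop] at hm
      obtain ⟨a, ha, b, hb, ha0, hb0, rfl⟩ := hm
      obtain ⟨x, hx, hxS, hxp⟩ := ih a (by omega) ha ha0
      obtain ⟨y, hy, hyS, hyp⟩ := ih b (by omega) hb hb0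
      have hxy : x * y ∈ L (Finsupp.single P ((a + b : ℕ) : ℤ)) := by
        have := mul_mem_L hx hy
        rw [← Finsupp.single_add] at this
        exact_mod_cast this
      refine ⟨x * y, hxy, ?_, ?_⟩ <;> rw [hmul a b x hx y hy hxy]
      · exact mul_mem hxS hyS
      · rw [map_mul, hxp, hyp, monomial_mul_monomial, mul_one]
  have hall : ∀ n x (hx : x ∈ L (Finsupp.single P ((n : ℕ) : ℤ))), monom n x hx ∈ S := by
    intro n
    induction n with
    | zero =>
      intro x hx
      obtain ⟨c, rfl⟩ := exists_const hK (x := x) (by simpa using hx)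
      have : monom 0 (algebraMap k K c) hx = algebraMap k ↥RR c :=
        Subtype.ext (show monomial 0 (algebraMap k K c) = algebraMap k K[X] c by rw [Polynomial.algebraMap_apply, Polynomial.monomial_zero_left])
      rw [this]
      exact Subalgebra.algebraMap_mem _ c
    | succ n ih =>
      intro x hx
      have hstep : ∀ z (hz : z ∈ L (Finsupp.single P ((n + 1 : ℕ) : ℤ))),
          (psi P hK (monom (n + 1) z hz)).coeff (n + 1) = 0 → monom (n + 1) z hz ∈ S := by
        intro z hz h0
        rw [psi_coeff_eq_zero] at h0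
        have hz' : z ∈ L (Finsupp.single P (n : ℤ)) := by simpa [monom] using h0
        have : monom (n + 1) z hz = t * monom n z hz' := by
          refine Subtype.ext ?_
          show monomial (n + 1) z = monomial 1 1 * monomial n z
          rw [monomial_mul_monomial, one_mul, add_comm]
        rw [this]
        exact mul_mem (Algebra.subset_adjoin (Finset.mem_coe.2 (Finset.mem_insert_self _ _))) (ih z hz')
      by_cases hn : n + 1 ∈ poleOrders P
      · obtain ⟨y, hy, hyS, hyp⟩ := hlift _ hn (Nat.succ_ne_zero n)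
        let c := (psi P hK (monom (n + 1) x hx)).coeff (n + 1)
        have hz : x - c • y ∈ L (Finsupp.single P ((n + 1 : ℕ) : ℤ)) := sub_mem hx (Submodule.smul_mem _ c hy)
        have hdec : monom (n + 1) x hx = monom (n + 1) (x - c • y) hz + c • monom (n + 1) y hy := by
          refine Subtype.ext ?_
          show monomial (n + 1) x = monomial (n + 1) (x - c • y) + c • monomial (n + 1) y
          rw [smul_monomial, ← map_add, sub_add_cancel]
        rw [hdec]
        refine add_mem (hstep _ hz ?_) (Subalgebra.smul_mem _ hyS c)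
        have : monom (n + 1) (x - c • y) hz = monom (n + 1) x hx - c • monom (n + 1) y hy :=
          eq_sub_of_add_eq hdec.symm
        rw [this, map_sub, map_smul, hyp, coeff_sub, coeff_smul, coeff_monomial, if_pos rfl, smul_eq_mul, mul_one]
        exact sub_self c
      · exact hstep x hx (psi_coeff_eq_zero_of_not_mem hK _ hn)
  haveI : Algebra.FiniteType k ↥RR := ⟨⟨G, eq_top_iff.2 fun p _ => by
    rw [sum_monom p]
    exact Subalgebra.sum_mem _ fun n _ => hall n _ _⟩⟩
  exact Algebra.FiniteType.isNoetherianRing k ↥RR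

end Groth.Agent.GrSect6
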